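import Mathlib.CategoryTheory.Limits.Shapes.Pullback.HasPullback
import Mathlib.CategoryTheory.Limits.Shapes.Equalizers
import Mathlib.CategoryTheory.EffectiveEpi.Basic
import Mathlib.CategoryTheory.MorphismProperty.Limits
import Mathlib.CategoryTheory.MorphismProperty.Basic

/-!
# Descent of coequalizer cocones along an effective epimorphism
-/

universe v u

open CategoryTheory CategoryTheory.Limits

namespace GrothLib.Misc13

variable {C : Type u} [Category.{v} C] [HasPullbacks C] {X₁ X₀ Y₀ : C} (d₀ d₁ : X₁ ⟶ X₀)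
  (f₀ : Y₀ ⟶ X₀)

/-- Morphisms equalized by the inverse image pair descend. -/
theorem existsUnique_desc (s : X₀ ⟶ X₁) (hs₀ : s ≫ d₀ = 𝟙 X₀) (hs₁ : s ≫ d₁ = 𝟙 X₀)
    [EffectiveEpi f₀] (hf : MorphismProperty.universally (MorphismProperty.epimorphisms C) f₀)
    {T : C} (g : Y₀ ⟶ T)
    (hg : (pullback.fst (pullback.snd f₀ d₁ ≫ d₀) f₀ ≫ pullback.fst f₀ d₁) ≫ g =
      pullback.snd (pullback.snd f₀ d₁ ≫ d₀) f₀ ≫ g) :
    ∃! h : X₀ ⟶ T, d₁ ≫ h = d₀ ≫ h ∧ f₀ ≫ h = g := by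
  have hker : ∀ {Z : C} (z₁ z₂ : Z ⟶ Y₀), z₁ ≫ f₀ = z₂ ≫ f₀ → z₁ ≫ g = z₂ ≫ g := by
    intro Z z₁ z₂ hz
    let l : Z ⟶ pullback (pullback.snd f₀ d₁ ≫ d₀) f₀ :=
      pullback.lift (pullback.lift z₁ (z₁ ≫ f₀ ≫ s) (by simp [hs₁])) z₂ (by rw [pullback.lift_snd_assoc, Category.assoc, Category.assoc, hs₀, Category.comp_id, hz])
    have := congrArg (l ≫ ·) hg
    simp only [l, Category.assoc] at this
    rwa [pullback.lift_fst_assoc, pullback.lift_fst_assoc, pullback.lift_snd_assoc] at this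
  let h := EffectiveEpi.desc f₀ g (fun g₁ g₂ hh => hker g₁ g₂ hh)
  have hfac : f₀ ≫ h = g := EffectiveEpi.fac _ _ _
  refine ⟨h, ⟨?_, hfac⟩, fun h' hh' => ?_⟩
  · have : Epi (pullback.snd f₀ d₁) :=
      hf _ _ _ (IsPullback.of_hasPullback f₀ d₁).flip
    have : Epi (pullback.fst (pullback.snd f₀ d₁ ≫ d₀) f₀) :=
      hf _ _ _ (IsPullback.of_hasPullback (pullback.snd f₀ d₁ ≫ d₀) f₀)
    rw [← cancel_epi (pullback.snd f₀ d₁),
      ← cancel_epi (pullback.fst (pullback.snd f₀ d₁ ≫ d₀) f₀)]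
    conv_lhs => rw [← pullback.condition_assoc, hfac, ← Category.assoc, hg]
    conv_rhs => rw [← Category.assoc (pullback.snd f₀ d₁), ← Category.assoc, pullback.condition,
      Category.assoc, hfac]
  · rw [← cancel_epi f₀, hfac, hh'.2]

theorem comp_eq_of_eq {T : C} (h : X₀ ⟶ T) (hh : d₁ ≫ h = d₀ ≫ h) :
    (pullback.fst (pullback.snd f₀ d₁ ≫ d₀) f₀ ≫ pullback.fst f₀ d₁) ≫ f₀ ≫ h =
      pullback.snd (pullback.snd f₀ d₁ ≫ d₀) f₀ ≫ f₀ ≫ h := by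
  rw [Category.assoc, pullback.condition_assoc, hh, ← pullback.condition_assoc, Category.assoc]

/-- The pair has a coequalizer iff its inverse image has one. -/
theorem hasCoequalizer_iff (s : X₀ ⟶ X₁) (hs₀ : s ≫ d₀ = 𝟙 X₀) (hs₁ : s ≫ d₁ = 𝟙 X₀)
    [EffectiveEpi f₀] (hf : MorphismProperty.universally (MorphismProperty.epimorphisms C) f₀) :
    HasCoequalizer d₁ d₀ ↔
      HasCoequalizer (pullback.fst (pullback.snd f₀ d₁ ≫ d₀) f₀ ≫ pullback.fst f₀ d₁)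
        (pullback.snd (pullback.snd f₀ d₁ ≫ d₀) f₀) := by
  constructor
  · intro _
    refine ⟨⟨⟨Cofork.ofπ (f₀ ≫ coequalizer.π d₁ d₀)
      (comp_eq_of_eq d₀ d₁ f₀ _ (coequalizer.condition d₁ d₀)), ?_⟩⟩⟩
    refine Cofork.IsColimit.mk' _ fun c => ?_
    have h := (existsUnique_desc d₀ d₁ f₀ s hs₀ hs₁ hf c.π c.condition).exists
    obtain ⟨h₀, hh₀, hh₁⟩ := Classical.indefiniteDescription _ h
    refine ⟨coequalizer.desc h₀ hh₀, ?_, fun {m} hm => coequalizer.hom_ext (?_ : _ ≫ (m : coequalizer d₁ d₀ ⟶ c.pt) = _)⟩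
    · show (f₀ ≫ coequalizer.π d₁ d₀) ≫ _ = _
      rw [Category.assoc, coequalizer.π_desc, hh₁]
    · rw [coequalizer.π_desc, ← cancel_epi f₀, hh₁, ← Category.assoc]
      exact hm
  · intro _
    let a := pullback.fst (pullback.snd f₀ d₁ ≫ d₀) f₀ ≫ pullback.fst f₀ d₁
    let b := pullback.snd (pullback.snd f₀ d₁ ≫ d₀) f₀
    have h := (existsUnique_desc d₀ d₁ f₀ s hs₀ hs₁ hf _ (coequalizer.condition a b)).exists
    obtain ⟨h₀, hh₀, hh₁⟩ := h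
    refine ⟨⟨⟨Cofork.ofπ h₀ hh₀, ?_⟩⟩⟩
    refine Cofork.IsColimit.mk' _ fun c => ?_
    refine ⟨coequalizer.desc (f₀ ≫ c.π) (comp_eq_of_eq d₀ d₁ f₀ c.π c.condition), ?_,
      fun {m} hm => coequalizer.hom_ext (?_ : _ ≫ (m : coequalizer a b ⟶ c.pt) = _)⟩
    · show h₀ ≫ _ = _
      rw [← cancel_epi f₀, ← Category.assoc, hh₁, coequalizer.π_desc]
    · show coequalizer.π a b ≫ m = coequalizer.π a b ≫ _
      rw [coequalizer.π_desc, ← hh₁, Category.assoc]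
      exact congrArg (f₀ ≫ ·) hm

end GrothLib.Misc13
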